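import Mathlib

/-! Herbrand-quotient type lemma: if `N ≤ M` with `M ⧸ N` of finite length and `x` regular on `M`,
then `ℓ(M/xM) = ℓ(N/xN)`. Also: finitely generated torsion modules over a one-dimensional
Noetherian domain have finite length, and `ℓ((A^r)/x) = r ℓ(A/x)`. -/

set_option autoImplicit false

namespace Groth.Agent.Lib.Helper14.DegOrd

open Module Pointwise

universe u

section Herbrand

variable {A : Type u} [CommRing A] {M : Type u} [AddCommGroup M] [Module A M]

theorem herbrand (x : A) (N : Submodule A M) (hx : ∀ m : M, x • m = 0 → m = 0)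
    (hfin : Module.length A (M ⧸ N) ≠ ⊤) :
    Module.length A (QuotSMulTop x M) = Module.length A (QuotSMulTop x N) := by
  set P : Submodule A M := x • N with hP
  have hPN : P ≤ N := by
    intro y hy
    obtain ⟨n, hn, rfl⟩ := (Submodule.mem_smul_pointwise_iff_exists _ _ _).mp hy
    exact N.smul_mem _ hn
  have hPx : P ≤ x • (⊤ : Submodule A M) := by
    intro y hy
    obtain ⟨n, hn, rfl⟩ := (Submodule.mem_smul_pointwise_iff_exists _ _ _).mp hy
    exact Submodule.smul_mem_pointwise_smul _ _ _ Submodule.mem_top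
  -- first exact sequence
  have h1 : (x • (⊤ : Submodule A N)) ≤ LinearMap.ker (P.mkQ ∘ₗ N.subtype) := by
    intro n hn
    obtain ⟨n₀, -, rfl⟩ := (Submodule.mem_smul_pointwise_iff_exists _ _ _).mp hn
    rw [LinearMap.mem_ker, LinearMap.comp_apply, Submodule.mkQ_apply,
      Submodule.Quotient.mk_eq_zero]
    exact Submodule.smul_mem_pointwise_smul _ _ _ n₀.2
  let f₁ : QuotSMulTop x N →ₗ[A] M ⧸ P := Submodule.liftQ _ (P.mkQ ∘ₗ N.subtype) h1
  have hf₁ : Function.Injective f₁ := by
    rw [← LinearMap.ker_eq_bot]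
    apply Submodule.ker_liftQ_eq_bot
    intro n hn
    rw [LinearMap.mem_ker, LinearMap.comp_apply, Submodule.mkQ_apply,
      Submodule.Quotient.mk_eq_zero] at hn
    obtain ⟨n₀, hn₀, h⟩ := (Submodule.mem_smul_pointwise_iff_exists _ _ _).mp hn
    refine (Submodule.mem_smul_pointwise_iff_exists _ _ _).mpr ⟨⟨n₀, hn₀⟩, Submodule.mem_top, ?_⟩
    exact Subtype.ext h
  let g₁ : M ⧸ P →ₗ[A] M ⧸ N := Submodule.mapQ P N LinearMap.id hPN
  have hg₁ : Function.Surjective g₁ := by
    intro y
    obtain ⟨m, rfl⟩ := Submodule.Quotient.mk_surjective _ y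
    exact ⟨Submodule.Quotient.mk m, rfl⟩
  have hex₁ : Function.Exact f₁ g₁ := by
    intro y
    obtain ⟨m, rfl⟩ := Submodule.Quotient.mk_surjective _ y
    constructor
    · intro h
      have hm : m ∈ N := by
        have : (Submodule.Quotient.mk m : M ⧸ N) = 0 := h
        exact (Submodule.Quotient.mk_eq_zero _).mp this
      exact ⟨Submodule.Quotient.mk ⟨m, hm⟩, rfl⟩
    · rintro ⟨q, hq⟩
      obtain ⟨n, rfl⟩ := Submodule.Quotient.mk_surjective _ q
      rw [← hq]
      show (Submodule.Quotient.mk (n : M) : M ⧸ N) = 0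
      exact (Submodule.Quotient.mk_eq_zero _).mpr n.2
  have e1 := Module.length_eq_add_of_exact f₁ g₁ hf₁ hg₁ hex₁
  -- second exact sequence
  have h2 : N ≤ LinearMap.ker (P.mkQ ∘ₗ (x • (LinearMap.id : M →ₗ[A] M))) := by
    intro n hn
    rw [LinearMap.mem_ker, LinearMap.comp_apply, Submodule.mkQ_apply,
      Submodule.Quotient.mk_eq_zero]
    exact Submodule.smul_mem_pointwise_smul _ _ _ hn
  let f₂ : M ⧸ N →ₗ[A] M ⧸ P := Submodule.liftQ _ (P.mkQ ∘ₗ (x • (LinearMap.id : M →ₗ[A] M))) h2
  have hf₂ : Function.Injective f₂ := by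
    rw [← LinearMap.ker_eq_bot]
    apply Submodule.ker_liftQ_eq_bot
    intro m hm
    rw [LinearMap.mem_ker, LinearMap.comp_apply, Submodule.mkQ_apply,
      Submodule.Quotient.mk_eq_zero] at hm
    obtain ⟨n₀, hn₀, h⟩ := (Submodule.mem_smul_pointwise_iff_exists _ _ _).mp hm
    have : m = n₀ := by
      have h' : x • (m - n₀) = 0 := by
        rw [smul_sub]
        simpa [sub_eq_zero] using h.symm
      exact sub_eq_zero.mp (hx _ h')
    rw [this]
    exact hn₀
  let g₂ : M ⧸ P →ₗ[A] QuotSMulTop x M := Submodule.mapQ P _ LinearMap.id hPx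
  have hg₂ : Function.Surjective g₂ := by
    intro y
    obtain ⟨m, rfl⟩ := Submodule.Quotient.mk_surjective _ y
    exact ⟨Submodule.Quotient.mk m, rfl⟩
  have hex₂ : Function.Exact f₂ g₂ := by
    intro y
    obtain ⟨m, rfl⟩ := Submodule.Quotient.mk_surjective _ y
    constructor
    · intro h
      have hm : m ∈ x • (⊤ : Submodule A M) := by
        have : (Submodule.Quotient.mk m : QuotSMulTop x M) = 0 := h
        exact (Submodule.Quotient.mk_eq_zero _).mp this
      obtain ⟨m', -, rfl⟩ := (Submodule.mem_smul_pointwise_iff_exists _ _ _).mp hm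
      exact ⟨Submodule.Quotient.mk m', rfl⟩
    · rintro ⟨q, hq⟩
      obtain ⟨m', rfl⟩ := Submodule.Quotient.mk_surjective _ q
      rw [← hq]
      show (Submodule.Quotient.mk (x • m') : QuotSMulTop x M) = 0
      exact (Submodule.Quotient.mk_eq_zero _).mpr
        (Submodule.smul_mem_pointwise_smul _ _ _ Submodule.mem_top)
  have e2 := Module.length_eq_add_of_exact f₂ g₂ hf₂ hg₂ hex₂
  rw [e1, add_comm] at e2
  exact ((ENat.add_right_injective_of_ne_top hfin) e2).symm

end Herbrand

end Groth.Agent.Lib.Helper14.DegOrd
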