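import Mathlib
import Groth.Agent.Lib.Helper14.DegOrd.Herbrand

/-! Lattice length lemmas over a one-dimensional Noetherian domain. -/

set_option autoImplicit false

namespace Groth.Agent.Lib.Helper14.DegOrd

open Module Pointwise

universe u

section Torsion

variable {A : Type u} [CommRing A] [IsDomain A] [IsNoetherianRing A] [Ring.KrullDimLE 1 A]

/-- A finitely generated torsion module over a one-dimensional Noetherian domain has finite
length. -/
theorem isFiniteLength_of_torsion (T : Type u) [AddCommGroup T] [Module A T] [Module.Finite A T]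
    (ht : ∀ t : T, ∃ d : A, d ≠ 0 ∧ d • t = 0) : IsFiniteLength A T := by
  classical
  obtain ⟨s, hs⟩ := (Module.Finite.fg_top : (⊤ : Submodule A T).FG)
  choose d hd0 hd using ht
  set D : A := ∏ t ∈ s, d t with hD
  have hD0 : D ≠ 0 := Finset.prod_ne_zero_iff.mpr fun t _ => hd0 t
  have hkill : ∀ t : T, D • t = 0 := by
    intro t
    have : t ∈ Submodule.span A (s : Set T) := by rw [hs]; trivial
    induction this using Submodule.span_induction with
    | mem t ht =>
      obtain ⟨c, hc⟩ := Finset.dvd_prod_of_mem d ht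
      rw [hD, hc, mul_comm, mul_smul, hd, smul_zero]
    | zero => simp
    | add a b _ _ ha hb => rw [smul_add, ha, hb, add_zero]
    | smul c a _ ha => rw [smul_comm, ha, smul_zero]
  set I : Ideal A := Ideal.span {D} with hI
  have htors : Module.IsTorsionBySet A T I := by
    intro t a
    obtain ⟨c, hc⟩ := Ideal.mem_span_singleton'.mp a.2
    rw [← hc, mul_smul, hkill, smul_zero]
  letI := htors.module
  haveI : IsScalarTower A (A ⧸ I) T := htors.isScalarTower
  haveI : IsArtinianRing (A ⧸ I) := by
    have := isFiniteLength_quotient_span_singleton A (mem_nonZeroDivisors_of_ne_zero hD0)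
    rw [isFiniteLength_iff_isNoetherian_isArtinian] at this
    exact isArtinian_of_tower A this.2
  haveI : Module.Finite (A ⧸ I) T := Module.Finite.of_restrictScalars_finite A (A ⧸ I) T
  haveI : IsArtinian (A ⧸ I) T := inferInstance
  haveI : IsArtinian A T :=
    isArtinian_of_surjective_algebraMap (R := A ⧸ I) (Ideal.Quotient.mk_surjective (I := I))
  rw [isFiniteLength_iff_isNoetherian_isArtinian]
  exact ⟨inferInstance, inferInstance⟩

theorem length_quotSMulTop_pi (x : A) (r : ℕ) :
    Module.length A (QuotSMulTop x (Fin r → A)) =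
      (r : ℕ∞) * Module.length A (A ⧸ Ideal.span {x}) := by
  rw [(QuotSMulTop.equivQuotTensor x (Fin r → A)).length_eq,
    ((TensorProduct.piScalarRight A A (A ⧸ Ideal.span {x}) (Fin r))).length_eq, Module.length_pi]
  simp

end Torsion

end Groth.Agent.Lib.Helper14.DegOrd

namespace Groth.Agent.Lib.Helper14.DegOrd

open Module Pointwise

universe u

section Lat

variable {A : Type u} [CommRing A] [IsDomain A] [IsNoetherianRing A] [Ring.KrullDimLE 1 A]
variable {M : Type u} [AddCommGroup M] [Module A M]
variable (x : A) (hx : ∀ m : M, x • m = 0 → m = 0)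
variable {r : ℕ} (v : Fin r → M) (hv : LinearIndependent A v)

include hx hv in
/-- For a finitely generated submodule `P` containing the free submodule `F` spanned by `v`, with
`P/F` torsion: `ℓ(P/xP) = r ℓ(A/x)`. -/
theorem length_quot_of_le (P : Submodule A M) (hFP : Submodule.span A (Set.range v) ≤ P)
    (hfg : P.FG)
    (htor : ∀ m ∈ P, ∃ d : A, d ≠ 0 ∧ d • m ∈ Submodule.span A (Set.range v)) :
    Module.length A (QuotSMulTop x P) = (r : ℕ∞) * Module.length A (A ⧸ Ideal.span {x}) := by
  set F := Submodule.span A (Set.range v) with hF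
  set F' : Submodule A P := F.comap P.subtype with hF'
  have hxP : ∀ p : P, x • p = 0 → p = 0 := fun p hp =>
    Subtype.ext (hx p (by simpa using congrArg Subtype.val hp))
  haveI : Module.Finite A P := Module.Finite.iff_fg.mpr hfg
  have hfl : IsFiniteLength A (P ⧸ F') := by
    apply isFiniteLength_of_torsion
    intro t
    obtain ⟨p, rfl⟩ := Submodule.Quotient.mk_surjective _ t
    obtain ⟨d, hd0, hd⟩ := htor p p.2
    refine ⟨d, hd0, ?_⟩
    rw [← Submodule.Quotient.mk_smul, Submodule.Quotient.mk_eq_zero]
    exact hd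
  rw [herbrand x F' hxP (Module.length_ne_top_iff.mpr hfl)]
  let e₁ : F' ≃ₗ[A] F := Submodule.comapSubtypeEquivOfLe hFP
  let e₂ : F ≃ₗ[A] (Fin r → A) := (Basis.span hv).equivFun
  rw [(QuotSMulTop.congr x (e₁.trans e₂)).length_eq, length_quotSMulTop_pi]

include hx hv in
theorem length_quot_le
    (htor : ∀ m : M, ∃ d : A, d ≠ 0 ∧ d • m ∈ Submodule.span A (Set.range v)) :
    Module.length A (QuotSMulTop x M) ≤ (r : ℕ∞) * Module.length A (A ⧸ Ideal.span {x}) := by
  classical
  by_contra hlt
  rw [not_le] at hlt
  have hcne : (r : ℕ∞) * Module.length A (A ⧸ Ideal.span {x}) ≠ ⊤ := hlt.ne_top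
  obtain ⟨k, hk⟩ := ENat.ne_top_iff_exists.mp hcne
  rw [← hk] at hlt
  have h1 : ((k + 1 : ℕ) : ℕ∞) ≤ Module.length A (QuotSMulTop x M) := by
    have := Order.add_one_le_of_lt hlt
    exact_mod_cast this
  have h2 : ((k + 1 : ℕ) : WithBot ℕ∞) ≤ Order.krullDim (Submodule A (QuotSMulTop x M)) := by
    rw [← Module.coe_length]
    exact_mod_cast h1
  obtain ⟨l, hl⟩ := Order.le_krullDim_iff.mp h2
  have hstep : ∀ i : Fin l.length, ∃ z : M,
      (Submodule.Quotient.mk z : QuotSMulTop x M) ∈ l i.succ ∧
        (Submodule.Quotient.mk z : QuotSMulTop x M) ∉ l i.castSucc := by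
    intro i
    obtain ⟨y, hy1, hy2⟩ := SetLike.exists_of_lt (show l i.castSucc < l i.succ from l.step i)
    obtain ⟨z, rfl⟩ := Submodule.Quotient.mk_surjective _ y
    exact ⟨z, hy1, hy2⟩
  choose z hz1 hz2 using hstep
  set P : Submodule A M := Submodule.span A (Set.range v) ⊔ Submodule.span A (Set.range z) with hP
  have hFP : Submodule.span A (Set.range v) ≤ P := le_sup_left
  have hfg : P.FG := Submodule.FG.sup (Submodule.fg_span (Set.finite_range v))
    (Submodule.fg_span (Set.finite_range z))
  have hlen := length_quot_of_le x hx v hv P hFP hfg (fun m _ => htor m)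
  let φ : QuotSMulTop x P →ₗ[A] QuotSMulTop x M := QuotSMulTop.map x P.subtype
  let l' : LTSeries (Submodule A (QuotSMulTop x P)) :=
    LTSeries.mk l.length (fun i => (l i).comap φ) (by
      rw [Fin.strictMono_iff_lt_succ]
      intro i
      refine lt_of_le_of_ne (Submodule.comap_mono (l.step i).le) ?_
      intro heq
      have hzP : z i ∈ P :=
        Submodule.mem_sup_right (Submodule.subset_span (Set.mem_range_self i))
      have hmem : (Submodule.Quotient.mk ⟨z i, hzP⟩ : QuotSMulTop x P) ∈ (l i.succ).comap φ := by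
        rw [Submodule.mem_comap]
        exact hz1 i
      rw [← heq, Submodule.mem_comap] at hmem
      exact hz2 i hmem)
  have h3 := Order.LTSeries.length_le_krullDim l'
  rw [← Module.coe_length, hlen, ← hk] at h3
  have h4 : l'.length = k + 1 := hl
  rw [h4] at h3
  have h5 : ((k + 1 : ℕ) : ℕ∞) ≤ (k : ℕ∞) := by exact_mod_cast h3
  have h6 : k + 1 ≤ k := by exact_mod_cast h5
  omega

include hx hv in
theorem length_quot_of_finite [Module.Finite A M]
    (htor : ∀ m : M, ∃ d : A, d ≠ 0 ∧ d • m ∈ Submodule.span A (Set.range v)) :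
    Module.length A (QuotSMulTop x M) = (r : ℕ∞) * Module.length A (A ⧸ Ideal.span {x}) := by
  have := length_quot_of_le x hx v hv ⊤ le_top Module.Finite.fg_top (fun m _ => htor m)
  rw [← this]
  exact (QuotSMulTop.congr x (Submodule.topEquiv (R := A) (M := M))).length_eq.symm

theorem exists_pow_mem_span [IsLocalRing A] {x d : A} (hxm : x ∈ IsLocalRing.maximalIdeal A)
    (hd : d ≠ 0) : ∃ n : ℕ, x ^ n ∈ Ideal.span {d} := by
  have : x ∈ (Ideal.span {d}).radical := by
    rw [Ideal.radical_eq_sInf, Ideal.mem_sInf]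
    rintro P ⟨hdP, hP⟩
    have hPne : P ≠ ⊥ := by
      intro h
      rw [h] at hdP
      exact hd (by simpa using hdP (Ideal.subset_span rfl))
    have := hP.isMaximal_of_ne_bot hPne
    rw [IsLocalRing.eq_maximalIdeal this]
    exact hxm
  exact this

include hx hv in
theorem finite_of_length_quot_eq [IsLocalRing A] (hxm : x ∈ IsLocalRing.maximalIdeal A)
    (hx0 : x ≠ 0)
    (htor : ∀ m : M, ∃ d : A, d ≠ 0 ∧ d • m ∈ Submodule.span A (Set.range v))
    (heq : Module.length A (QuotSMulTop x M) =
      (r : ℕ∞) * Module.length A (A ⧸ Ideal.span {x})) : Module.Finite A M := by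
  classical
  have hfinA : Module.length A (A ⧸ Ideal.span {x}) ≠ ⊤ :=
    Module.length_ne_top_iff.mpr
      (isFiniteLength_quotient_span_singleton A (mem_nonZeroDivisors_of_ne_zero hx0))
  have hc : (r : ℕ∞) * Module.length A (A ⧸ Ideal.span {x}) ≠ ⊤ :=
    WithTop.mul_ne_top (ENat.coe_ne_top r) hfinA
  have hQfl : IsFiniteLength A (QuotSMulTop x M) := by
    rw [← Module.length_ne_top_iff, heq]
    exact hc
  haveI : IsNoetherian A (QuotSMulTop x M) :=
    (isFiniteLength_iff_isNoetherian_isArtinian.mp hQfl).1
  obtain ⟨s, hs⟩ := (Module.Finite.fg_top : (⊤ : Submodule A (QuotSMulTop x M)).FG)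
  let z : QuotSMulTop x M → M := Function.surjInv (Submodule.Quotient.mk_surjective _)
  have hz : ∀ y, (Submodule.Quotient.mk (z y) : QuotSMulTop x M) = y :=
    Function.surjInv_eq (Submodule.Quotient.mk_surjective _)
  set P : Submodule A M := Submodule.span A (Set.range v) ⊔ Submodule.span A (z '' (s : Set _))
    with hP
  have hFP : Submodule.span A (Set.range v) ≤ P := le_sup_left
  have hfg : P.FG := Submodule.FG.sup (Submodule.fg_span (Set.finite_range v))
    (Submodule.fg_span (s.finite_toSet.image z))
  have hlen := length_quot_of_le x hx v hv P hFP hfg (fun m _ => htor m)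
  let φ : QuotSMulTop x P →ₗ[A] QuotSMulTop x M := QuotSMulTop.map x P.subtype
  have hφsurj : Function.Surjective φ := by
    rw [← LinearMap.range_eq_top, eq_top_iff, ← hs, Submodule.span_le]
    intro y hy
    have hzP : z y ∈ P :=
      Submodule.mem_sup_right (Submodule.subset_span (Set.mem_image_of_mem z hy))
    exact ⟨Submodule.Quotient.mk ⟨z y, hzP⟩, hz y⟩
  have hφinj : Function.Injective φ := by
    have hadd := Module.length_eq_add_of_exact (LinearMap.ker φ).subtype φ
      (Submodule.subtype_injective _) hφsurj (LinearMap.exact_subtype_ker_map φ)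
    rw [hlen, heq] at hadd
    have hker0 : Module.length A (LinearMap.ker φ) = 0 := by
      have h' : 0 + (r : ℕ∞) * Module.length A (A ⧸ Ideal.span {x}) =
          Module.length A (LinearMap.ker φ) + (r : ℕ∞) * Module.length A (A ⧸ Ideal.span {x}) := by
        rw [zero_add]
        exact hadd
      exact ((ENat.add_left_injective_of_ne_top hc) h').symm
    have hsub : Subsingleton (LinearMap.ker φ) := Module.length_eq_zero_iff.mp hker0
    rw [← LinearMap.ker_eq_bot]
    exact Submodule.subsingleton_iff_eq_bot.mp hsub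
  -- key property
  have hkey : ∀ m : M, x • m ∈ P → m ∈ P := by
    intro m hm
    have h0 : φ (Submodule.Quotient.mk ⟨x • m, hm⟩) = 0 := by
      show (Submodule.Quotient.mk (x • m) : QuotSMulTop x M) = 0
      exact (Submodule.Quotient.mk_eq_zero _).mpr
        (Submodule.smul_mem_pointwise_smul _ _ _ Submodule.mem_top)
    have h1 : (Submodule.Quotient.mk ⟨x • m, hm⟩ : QuotSMulTop x P) = 0 :=
      hφinj (by rw [h0, map_zero])
    rw [Submodule.Quotient.mk_eq_zero] at h1
    obtain ⟨p', -, hp'⟩ := (Submodule.mem_smul_pointwise_iff_exists _ _ _).mp h1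
    have h2 : x • (p' : M) = x • m := congrArg Subtype.val hp'
    have h3 : x • ((p' : M) - m) = 0 := by rw [smul_sub, h2, sub_self]
    have h4 := hx _ h3
    rw [sub_eq_zero] at h4
    rw [← h4]
    exact p'.2
  have hpow : ∀ n : ℕ, ∀ m : M, x ^ n • m ∈ P → m ∈ P := by
    intro n
    induction n with
    | zero => intro m hm; simpa using hm
    | succ n ih =>
      intro m hm
      apply ih
      apply hkey
      rwa [← mul_smul, ← pow_succ']
  have htop : P = ⊤ := by
    rw [eq_top_iff]
    intro m _
    obtain ⟨d, hd0, hd⟩ := htor m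
    obtain ⟨n, hn⟩ := exists_pow_mem_span hxm hd0
    obtain ⟨c, hc'⟩ := Ideal.mem_span_singleton'.mp hn
    apply hpow n
    rw [← hc', mul_smul]
    exact P.smul_mem _ (hFP hd)
  rw [htop] at hfg
  exact Module.finite_def.mpr hfg

end Lat

end Groth.Agent.Lib.Helper14.DegOrd
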