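import Mathlib

/-! Sum formula: for a finite-length `B`-module `N` (with compatible `A`-structure) over a ring `B`
with finitely many maximal ideals,
`ℓ_A(N) = ∑_m ℓ_A(B/m) * ℓ_{B_m}(N_m)`. -/

set_option autoImplicit false

namespace Groth.Agent.Lib.Helper14.DegOrd

open Module

universe u

section P1

variable {B : Type u} [CommRing B] (p : Submonoid B)
variable {N' N N'' : Type u} [AddCommGroup N'] [AddCommGroup N] [AddCommGroup N'']
  [Module B N'] [Module B N] [Module B N'']

theorem length_localizedModule_add (f : N' →ₗ[B] N) (g : N →ₗ[B] N'')
    (hf : Function.Injective f) (hg : Function.Surjective g) (hex : Function.Exact f g) :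
    Module.length (Localization p) (LocalizedModule p N) =
      Module.length (Localization p) (LocalizedModule p N') +
        Module.length (Localization p) (LocalizedModule p N'') := by
  refine Module.length_eq_add_of_exact (LocalizedModule.map p f) (LocalizedModule.map p g)
    (LocalizedModule.map_injective p f hf) (LocalizedModule.map_surjective p g hg) ?_
  exact LocalizedModule.map_exact p f g hex

theorem length_localizedModule_congr (e : N ≃ₗ[B] N') :
    Module.length (Localization p) (LocalizedModule p N) =
      Module.length (Localization p) (LocalizedModule p N') :=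
  (IsLocalizedModule.mapEquiv p (LocalizedModule.mkLinearMap p N)
    (LocalizedModule.mkLinearMap p N') (Localization p) e).length_eq

end P1

section LQ

variable {B : Type u} [CommRing B] (p : Submonoid B) (I : Ideal B)

theorem localized'_eq_map :
    (I.localized' (Localization p) p (Algebra.linearMap B (Localization p)) :
      Ideal (Localization p)) = I.map (algebraMap B (Localization p)) := by
  rw [Submodule.localized'_eq_span]
  rfl

/-- The localization of `B ⧸ I` is `B_p ⧸ I B_p`, as far as lengths are concerned. -/
theorem length_localizedModule_quotient :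
    Module.length (Localization p) (LocalizedModule p (B ⧸ I)) =
      Module.length (Localization p) (Localization p ⧸ I.map (algebraMap B (Localization p))) := by
  let g := I.toLocalizedQuotient' (Localization p) p (Algebra.linearMap B (Localization p))
  let e₁ : LocalizedModule p (B ⧸ I) ≃ₗ[B]
      (Localization p ⧸ (I.localized' (Localization p) p (Algebra.linearMap B (Localization p)))) :=
    IsLocalizedModule.iso p g
  let e₁' := LinearEquiv.extendScalarsOfIsLocalization p (Localization p) e₁
  rw [e₁'.length_eq]
  exact (Submodule.quotEquivOfEq _ _ (localized'_eq_map p I)).length_eq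

end LQ

end Groth.Agent.Lib.Helper14.DegOrd

namespace Groth.Agent.Lib.Helper14.DegOrd

open Module

universe u

section Main

variable (A : Type u) (B : Type u) [CommRing A] [CommRing B] [Algebra A B]
  [Fintype (MaximalSpectrum B)]

/-- The sum over maximal ideals of `ℓ_A(B/m) * ℓ_{B_m}(N_m)`. -/
noncomputable def G (N : Type u) [AddCommGroup N] [Module B N] : ℕ∞ :=
  ∑ m : MaximalSpectrum B, Module.length A (B ⧸ m.asIdeal) *
    Module.length (Localization.AtPrime m.asIdeal) (LocalizedModule m.asIdeal.primeCompl N)

variable {B} in
theorem G_add {N' N N'' : Type u} [AddCommGroup N'] [AddCommGroup N] [AddCommGroup N'']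
    [Module B N'] [Module B N] [Module B N''] (f : N' →ₗ[B] N) (g : N →ₗ[B] N'')
    (hf : Function.Injective f) (hg : Function.Surjective g) (hex : Function.Exact f g) :
    G A B N = G A B N' + G A B N'' := by
  unfold G
  rw [← Finset.sum_add_distrib]
  refine Finset.sum_congr rfl fun m _ => ?_
  rw [← mul_add, length_localizedModule_add m.asIdeal.primeCompl f g hf hg hex]

theorem G_of_subsingleton (N : Type u) [AddCommGroup N] [Module B N] [Subsingleton N] :
    G A B N = 0 := by
  unfold G
  refine Finset.sum_eq_zero fun m _ => ?_
  rw [Module.length_eq_zero (R := Localization.AtPrime m.asIdeal)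
    (M := LocalizedModule m.asIdeal.primeCompl N), mul_zero]

theorem length_simple (S : Type u) [AddCommGroup S] [Module B S] [Module A S]
    [IsScalarTower A B S] [IsSimpleModule B S] : Module.length A S = G A B S := by
  obtain ⟨I, hI, ⟨e⟩⟩ := isSimpleModule_iff_quot_maximal.mp ‹IsSimpleModule B S›
  let m₀ : MaximalSpectrum B := ⟨I, hI⟩
  have h1 : Module.length A S = Module.length A (B ⧸ I) := (e.restrictScalars A).length_eq
  unfold G
  rw [Finset.sum_eq_single m₀]
  · have : Module.length (Localization.AtPrime I) (LocalizedModule I.primeCompl S) = 1 := by
      rw [length_localizedModule_congr I.primeCompl e, length_localizedModule_quotient,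
        Localization.AtPrime.map_eq_maximalIdeal, Module.length_eq_one_iff]
      exact isSimpleModule_iff_quot_maximal.mpr
        ⟨_, IsLocalRing.maximalIdeal.isMaximal _, ⟨LinearEquiv.refl _ _⟩⟩
    show Module.length A S = Module.length A (B ⧸ I) *
      Module.length (Localization.AtPrime I) (LocalizedModule I.primeCompl S)
    rw [this, mul_one, h1]
  · intro m _ hm
    have : Subsingleton (LocalizedModule m.asIdeal.primeCompl S) := by
      rw [LocalizedModule.subsingleton_iff]
      intro n
      obtain ⟨s, hsI, hsm⟩ : ∃ s ∈ I, s ∉ m.asIdeal := by
        by_contra h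
        push_neg at h
        have hle : I ≤ m.asIdeal := h
        have := hI.eq_of_le m.isMaximal.ne_top hle
        exact hm (MaximalSpectrum.ext this.symm)
      refine ⟨s, hsm, ?_⟩
      apply e.injective
      rw [map_smul, map_zero]
      obtain ⟨b, hb⟩ := Ideal.Quotient.mk_surjective (e n)
      rw [← hb]
      show Ideal.Quotient.mk I (s • b) = 0
      exact Ideal.Quotient.eq_zero_iff_mem.mpr (I.mul_mem_right _ hsI)
    rw [Module.length_eq_zero (R := Localization.AtPrime m.asIdeal)
      (M := LocalizedModule m.asIdeal.primeCompl S), mul_zero]
  · intro h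
    exact absurd (Finset.mem_univ _) h

theorem length_eq_G_aux : ∀ (n : ℕ) (N : Type u) [AddCommGroup N] [Module B N] [Module A N]
    [IsScalarTower A B N], Module.length B N = n → Module.length A N = G A B N := by
  intro n
  induction n using Nat.strong_induction_on with
  | _ n ih =>
  intro N _ _ _ _ hn
  rcases Nat.eq_zero_or_pos n with rfl | hpos
  · have : Subsingleton N := Module.length_eq_zero_iff.mp (by simpa using hn)
    rw [G_of_subsingleton, Module.length_eq_zero]
  · have hfl : IsFiniteLength B N := by
      rw [← Module.length_ne_top_iff, hn]
      exact ENat.coe_ne_top n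
    obtain ⟨hNoeth, hArt⟩ := isFiniteLength_iff_isNoetherian_isArtinian.mp hfl
    have hnt : Nontrivial N := by
      rw [← Module.length_pos_iff (R := B), hn]
      exact_mod_cast hpos
    obtain ⟨N', hN'⟩ : ∃ N' : Submodule B N, IsCoatom N' := by
      obtain h | ⟨N', hN', -⟩ := eq_top_or_exists_le_coatom (⊥ : Submodule B N)
      · exact absurd h bot_ne_top
      · exact ⟨N', hN'⟩
    haveI : IsSimpleModule B (N ⧸ N') := isSimpleModule_iff_isCoatom.mpr hN'
    have hadd : Module.length B N = Module.length B N' + Module.length B (N ⧸ N') :=
      Module.length_eq_add_of_exact N'.subtype N'.mkQ N'.subtype_injective N'.mkQ_surjective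
        (LinearMap.exact_subtype_mkQ N')
    rw [Module.length_eq_one B (N ⧸ N'), hn] at hadd
    have hN'len : Module.length B N' = ((n - 1 : ℕ) : ℕ∞) := by
      have hne : Module.length B N' ≠ ⊤ := by
        intro h
        rw [h, top_add] at hadd
        exact ENat.coe_ne_top n hadd
      lift Module.length B N' to ℕ using hne with k hk
      have : n = k + 1 := by exact_mod_cast hadd
      subst this
      simp
    have ih' := ih (n - 1) (by omega) N' hN'len
    have hS := length_simple A B (N ⧸ N')
    have haddA : Module.length A N = Module.length A N' + Module.length A (N ⧸ N') :=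
      Module.length_eq_add_of_exact (N'.subtype.restrictScalars A) (N'.mkQ.restrictScalars A)
        N'.subtype_injective N'.mkQ_surjective (LinearMap.exact_subtype_mkQ N')
    rw [haddA, ih', hS]
    exact (G_add A N'.subtype N'.mkQ N'.subtype_injective N'.mkQ_surjective
      (LinearMap.exact_subtype_mkQ N')).symm

/-- The sum formula. -/
theorem length_eq_G (N : Type u) [AddCommGroup N] [Module B N] [Module A N]
    [IsScalarTower A B N] (h : IsFiniteLength B N) : Module.length A N = G A B N := by
  rw [← Module.length_ne_top_iff] at h
  lift Module.length B N to ℕ using h with k hk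
  exact length_eq_G_aux A B k N hk.symm

end Main

end Groth.Agent.Lib.Helper14.DegOrd
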