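import Mathlib
import Groth.Agent.Lib.Helper12.KAFin
import Groth.Agent.Lib.Helper14.DegOrd.SumLoc
import Groth.Agent.Lib.Helper14.DegOrd.Lattice

/-! Degree-times-order inequality for finite type extensions of one-dimensional local domains. -/

set_option autoImplicit false

namespace Groth.Agent.Lib.Helper14.DegOrd

open Module Pointwise Groth.Agent.Lib.Helper12

universe u

section

variable (A B K L : Type u)
  [CommRing A] [IsDomain A] [IsNoetherianRing A]
  [CommRing B] [IsDomain B] [Algebra A B]
  [Field K] [Field L] [Algebra A K] [IsFractionRing A K] [Algebra B L] [IsFractionRing B L]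
  [Algebra K L] [Algebra A L] [IsScalarTower A K L] [IsScalarTower A B L] [FiniteDimensional K L]

/-- A family in `B`, of size `[L:K]`, linearly independent over `A`, with torsion cokernel. -/
theorem exists_lattice : ∃ v : Fin (Module.finrank K L) → B, LinearIndependent A v ∧
    ∀ y : B, ∃ d : A, d ≠ 0 ∧ d • y ∈ Submodule.span A (Set.range v) := by
  classical
  have hinjBL : Function.Injective (algebraMap B L) := IsFractionRing.injective B L
  have hinjAK : Function.Injective (algebraMap A K) := IsFractionRing.injective A K
  let b := Module.finBasis K L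
  have hex : ∀ i, ∃ (s : B) (d : A), d ≠ 0 ∧ d • b i = algebraMap B L s :=
    fun i => KAFin.exists_smul_eq (R := A) (S := B) K L (b i)
  choose v d hd0 hvd using hex
  have hw : ∀ i, IsUnit (algebraMap A K (d i)) := fun i =>
    IsUnit.mk0 _ (by rw [Ne, map_eq_zero_iff _ hinjAK]; exact hd0 i)
  let b' := b.isUnitSMul hw
  have hb' : ∀ i, b' i = algebraMap B L (v i) := by
    intro i
    rw [Basis.isUnitSMul_apply, algebraMap_smul, hvd]
  have hmap : ∀ g : Fin (Module.finrank K L) → A,
      algebraMap B L (∑ i, g i • v i) = ∑ i, algebraMap A K (g i) • b' i := by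
    intro g
    rw [map_sum]
    refine Finset.sum_congr rfl fun i _ => ?_
    rw [hb', algebraMap_smul, Algebra.smul_def, map_mul, Algebra.smul_def,
      ← IsScalarTower.algebraMap_apply A B L]
  refine ⟨v, ?_, ?_⟩
  · rw [Fintype.linearIndependent_iff]
    intro g hg i
    have h1 := hmap g
    rw [hg, map_zero] at h1
    have h2 := Fintype.linearIndependent_iff.mp b'.linearIndependent _ h1.symm i
    exact (map_eq_zero_iff _ hinjAK).mp h2
  · intro y
    obtain ⟨e, he⟩ := IsLocalization.exist_integer_multiples (nonZeroDivisors A) Finset.univ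
      (fun i => b'.repr (algebraMap B L y) i)
    choose n hn using fun i => he i (Finset.mem_univ i)
    refine ⟨e, nonZeroDivisors.ne_zero e.2, ?_⟩
    have : (e : A) • y = ∑ i, n i • v i := by
      apply hinjBL
      rw [hmap]
      have h3 : algebraMap B L ((e : A) • y) = (e : A) • algebraMap B L y := by
        rw [Algebra.smul_def, map_mul, Algebra.smul_def, ← IsScalarTower.algebraMap_apply A B L]
      rw [h3]
      conv_lhs => rw [← b'.sum_repr (algebraMap B L y)]
      rw [Finset.smul_sum]
      refine Finset.sum_congr rfl fun i _ => ?_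
      rw [hn i, smul_assoc]
    rw [this]
    exact Submodule.sum_mem _ fun i _ =>
      Submodule.smul_mem _ _ (Submodule.subset_span (Set.mem_range_self i))


variable [IsLocalRing A] [Ring.KrullDimLE 1 A]

include A K L in
theorem finite_maximalSpectrum : Finite (MaximalSpectrum B) := by
  classical
  let T : Set (PrimeSpectrum B) :=
    (PrimeSpectrum.comap (algebraMap A B) ⁻¹' {IsLocalRing.closedPoint A}) ∪
      {q | q.asIdeal = ⊥}
  have hT : T.Finite := by
    refine Set.Finite.union (KAFin.finite_fibre (R := A) (S := B) K L _) ?_
    refine Set.Subsingleton.finite ?_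
    intro q hq q' hq'
    exact PrimeSpectrum.ext (hq.trans hq'.symm)
  haveI : Finite T := hT.to_subtype
  have hmem : ∀ m : MaximalSpectrum B, m.toPrimeSpectrum ∈ T := by
    intro m
    by_cases hm : m.asIdeal = ⊥
    · exact Or.inr hm
    · left
      obtain ⟨r, hr0, hr⟩ := KAFin.exists_ne_zero_mem (R := A) (S := B) K L m.asIdeal hm
      have hne : m.asIdeal.comap (algebraMap A B) ≠ ⊥ := by
        intro h
        have : r ∈ m.asIdeal.comap (algebraMap A B) := hr
        rw [h] at this
        exact hr0 this
      haveI : (m.asIdeal.comap (algebraMap A B)).IsPrime := Ideal.comap_isPrime _ _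
      have hmax := Ideal.isMaximal_of_isPrime_of_ne_bot (m.asIdeal.comap (algebraMap A B)) hne
      show PrimeSpectrum.comap (algebraMap A B) m.toPrimeSpectrum = IsLocalRing.closedPoint A
      apply PrimeSpectrum.ext
      exact IsLocalRing.eq_maximalIdeal hmax
  let f : MaximalSpectrum B → T := fun m => ⟨m.toPrimeSpectrum, hmem m⟩
  have hf : Function.Injective f := by
    intro m m' h
    apply MaximalSpectrum.toPrimeSpectrum_injective
    exact congrArg Subtype.val h
  exact Finite.of_injective f hf

include K L in
theorem isFiniteLength_quotient (x : A) (hx0 : x ≠ 0) :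
    IsFiniteLength B (B ⧸ Ideal.span {algebraMap A B x}) := by
  have hinj := KAFin.algebraMap_injective (R := A) (S := B) K L
  have hI0 : Ideal.span {algebraMap A B x} ≠ ⊥ := by
    rw [Ne, Ideal.span_singleton_eq_bot, map_eq_zero_iff _ hinj]
    exact hx0
  haveI := KAFin.isNoetherianRing (R := A) (S := B) K L
  haveI := KAFin.quotient_isArtinianRing (R := A) (S := B) K L _ hI0
  haveI : IsArtinian B (B ⧸ Ideal.span {algebraMap A B x}) :=
    isArtinian_of_surjective_algebraMap (R := B ⧸ Ideal.span {algebraMap A B x})
      (Ideal.Quotient.mk_surjective (I := Ideal.span {algebraMap A B x}))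
  rw [isFiniteLength_iff_isNoetherian_isArtinian]
  exact ⟨inferInstance, inferInstance⟩

omit [IsDomain A] [IsNoetherianRing A] [IsDomain B] [IsLocalRing A] [Ring.KrullDimLE 1 A] in
theorem length_quotSMulTop_eq (x : A) :
    Module.length A (QuotSMulTop x B) =
      Module.length A (B ⧸ Ideal.span {algebraMap A B x}) := by
  have h : (x • (⊤ : Submodule A B)) =
      (Ideal.span {algebraMap A B x}).restrictScalars A := by
    ext y
    rw [Submodule.mem_smul_pointwise_iff_exists, Submodule.restrictScalars_mem,
      Ideal.mem_span_singleton']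
    constructor
    · rintro ⟨b, -, rfl⟩
      exact ⟨b, by rw [Algebra.smul_def, mul_comm]⟩
    · rintro ⟨b, rfl⟩
      exact ⟨b, Submodule.mem_top, by rw [Algebra.smul_def, mul_comm]⟩
  rw [(Submodule.quotEquivOfEq _ _ h).length_eq]
  exact (Submodule.Quotient.restrictScalarsEquiv A (Ideal.span {algebraMap A B x})).length_eq


include K L in
theorem sum_eq_length [Fintype (MaximalSpectrum B)] (x : A) (hx0 : x ≠ 0) :
    (∑ m : MaximalSpectrum B, Module.length A (B ⧸ m.asIdeal) *
        Module.length (Localization.AtPrime m.asIdeal)
          (Localization.AtPrime m.asIdeal ⧸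
            Ideal.span ({algebraMap A (Localization.AtPrime m.asIdeal) x} : Set _))) =
      Module.length A (QuotSMulTop x B) := by
  rw [length_quotSMulTop_eq, length_eq_G A B _ (isFiniteLength_quotient A B K L x hx0)]
  unfold G
  refine Finset.sum_congr rfl fun m _ => ?_
  rw [length_localizedModule_quotient, Ideal.map_span, Set.image_singleton,
    ← IsScalarTower.algebraMap_apply]

include K L in
theorem main (x : A) (hx : x ∈ IsLocalRing.maximalIdeal A) (hx0 : x ≠ 0) :
    Finite (MaximalSpectrum B) ∧
      (∑ᶠ m : MaximalSpectrum B,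
          Module.length A (B ⧸ m.asIdeal) *
            Module.length (Localization.AtPrime m.asIdeal)
              (Localization.AtPrime m.asIdeal ⧸
                Ideal.span ({algebraMap A (Localization.AtPrime m.asIdeal) x} : Set _)) ≤
        (Module.finrank K L : ℕ∞) * Module.length A (A ⧸ Ideal.span ({x} : Set A))) ∧
      ((∑ᶠ m : MaximalSpectrum B,
          Module.length A (B ⧸ m.asIdeal) *
            Module.length (Localization.AtPrime m.asIdeal)
              (Localization.AtPrime m.asIdeal ⧸
                Ideal.span ({algebraMap A (Localization.AtPrime m.asIdeal) x} : Set _)) =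
        (Module.finrank K L : ℕ∞) * Module.length A (A ⧸ Ideal.span ({x} : Set A))) ↔
          Module.Finite A B) := by
  classical
  haveI hfin := finite_maximalSpectrum A B K L
  haveI : Fintype (MaximalSpectrum B) := Fintype.ofFinite _
  have hinj := KAFin.algebraMap_injective (R := A) (S := B) K L
  have hxreg : ∀ m : B, x • m = 0 → m = 0 := by
    intro m hm
    rw [Algebra.smul_def, mul_eq_zero, map_eq_zero_iff _ hinj] at hm
    exact hm.resolve_left hx0
  obtain ⟨v, hv, htor⟩ := exists_lattice A B K L
  rw [finsum_eq_sum_of_fintype, sum_eq_length A B K L x hx0]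
  refine ⟨hfin, length_quot_le x hxreg v hv htor, ?_, ?_⟩
  · intro heq
    exact finite_of_length_quot_eq x hxreg v hv hx hx0 htor heq
  · intro hfinB
    exact length_quot_of_finite x hxreg v hv htor

end

end Groth.Agent.Lib.Helper14.DegOrd
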